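import Cfsg.Agent.Lib.Compute.M23Tri.Module
import Cfsg.Agent.Lib.Compute.M23Tri.Data

/-!
# Generation of `M23` by triples of prime orders
-/

set_option autoImplicit false
set_option maxRecDepth 100000

namespace Cfsg.Agent.Lib.Compute.M23Tri

open Cfsg Cfsg.Agent.Lib.Compute.Golay Cfsg.Agent.Lib.Compute.GolayFast
open Cfsg.Agent.Lib.Compute.M24 Cfsg.Agent.Lib.Compute.M24Enum Cfsg.Agent.Lib.Compute.M24Norm
open Cfsg.Agent.Lib.Compute.M24Out

/-- The check of an element of `M23` of a prime order. -/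
def elemOK (L : List ℕ) (p : ℕ) : Bool :=
  inM24 L && L.getD 23 0 == 23 && M24Enum.powL L p == idL && L != idL

/-- The check of an entry. -/
def entOK (e : Ent) : Bool :=
  elemOK e.x e.p && elemOK e.y e.q && M24Enum.powL (mulL e.x e.y) e.r == idL && mulL e.x e.y != idL &&
    evalWord [e.x, e.y] e.wa == aL && evalWord [e.x, e.y] e.wm == muL && evalWord [e.x, e.y] e.wd == dlL

theorem tbl_ok : tbl.all entOK = true := by decide +kernel

theorem elem_spec {L : List ℕ} {p : ℕ} (hp : p.Prime) (h : elemOK L p = true) :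
    ∃ x : ↥Spor.M23, toL (x : P) = L ∧ orderOf x = p := by
  simp only [elemOK, Bool.and_eq_true, beq_iff_eq, bne_iff_ne] at h
  obtain ⟨⟨⟨h1, h2⟩, h3⟩, h4⟩ := h
  have hv : validL L = true := by
    simp only [inM24, Bool.and_eq_true] at h1
    exact h1.1
  have hm : ofL L ∈ Spor.M23 := by
    rw [Cfsg.Agent.S2063.mem_M23_iff]
    refine ⟨mem_M24_of_inM24 (codes_ofL hv) h1, ?_⟩
    rw [ofL_apply hv (by norm_num), h2]
  have : Fact p.Prime := ⟨hp⟩
  refine ⟨⟨ofL L, hm⟩, toL_ofL hv, orderOf_eq_prime ?_ ?_⟩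
  · apply Subtype.ext
    apply eq_of_toL
    show toL ((ofL L ^ p : P) : GolayPt → GolayPt) = toL ((1 : P) : GolayPt → GolayPt)
    rw [M24Enum.toL_pow, toL_ofL hv, h3, toL_one]
  · intro h5
    have h6 : ofL L = 1 := congrArg Subtype.val h5
    apply h4
    rw [← toL_ofL hv, h6, toL_one]

/-- The statement for an entry. -/
theorem exists_of_ent {e : Ent} (h : entOK e = true) (hp : e.p.Prime) (hq : e.q.Prime) (hr : e.r.Prime) :
    ∃ x y z : ↥Spor.M23, orderOf x = e.p ∧ orderOf y = e.q ∧ orderOf z = e.r ∧ x * y * z = 1 ∧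
      Subgroup.closure ({x, y} : Set ↥Spor.M23) = ⊤ := by
  simp only [entOK, Bool.and_eq_true, beq_iff_eq, bne_iff_ne] at h
  obtain ⟨⟨⟨⟨⟨⟨h1, h2⟩, h3⟩, h4⟩, h5⟩, h6⟩, h7⟩ := h
  obtain ⟨x, hx, hxo⟩ := elem_spec hp h1
  obtain ⟨y, hy, hyo⟩ := elem_spec hq h2
  have hxy : toL ((x * y : ↥Spor.M23) : P) = mulL e.x e.y := by
    show toL (((x : P) * (y : P) : P) : GolayPt → GolayPt) = _
    rw [M24Enum.toL_mul, hx, hy]
  have : Fact e.r.Prime := ⟨hr⟩
  have hxyo : orderOf (x * y) = e.r := by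
    refine orderOf_eq_prime ?_ ?_
    · apply Subtype.ext
      apply eq_of_toL
      show toL ((((x * y : ↥Spor.M23) : P) ^ e.r : P) : GolayPt → GolayPt) = toL ((1 : P) : GolayPt → GolayPt)
      rw [M24Enum.toL_pow, hxy, h3, toL_one]
    · intro h8
      apply h4
      rw [← hxy, h8]
      exact toL_one
  refine ⟨x, y, (x * y)⁻¹, hxo, hyo, by rw [orderOf_inv, hxyo], by group, ?_⟩
  -- generation
  let H : Subgroup P := Subgroup.closure ({(x : P), (y : P)} : Set P)
  let s : ℕ → P := fun i => if i = 0 then (x : P) else if i = 1 then (y : P) else 1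
  have hs : ∀ i, [e.x, e.y].getD i idL = toL (s i : P) := by
    intro i
    rcases i with _ | _ | i
    · simp [s, hx]
    · simp [s, hy]
    · have h0 : s (i + 1 + 1) = 1 := by simp [s]
      rw [h0, toL_one]
      simp
  have hsH : ∀ i, s i ∈ H := by
    intro i
    simp only [s]
    split_ifs
    · exact Subgroup.subset_closure (by simp)
    · exact Subgroup.subset_closure (by simp)
    · exact H.one_mem
  have hword : ∀ (w : List ℕ) (L : List ℕ), validL L = true → evalWord [e.x, e.y] w = L → ofL L ∈ H := by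
    intro w L hL he
    have h8 : ofL L = (w.map s).prod := by
      apply eq_of_toL
      rw [toL_ofL hL, ← he]
      exact evalWord_eq hs w
    rw [h8]
    apply Subgroup.list_prod_mem
    intro t ht
    obtain ⟨i, -, rfl⟩ := List.mem_map.1 ht
    exact hsH i
  have hgens : Subgroup.closure (setOf Cfsg.Agent.S2063.gensT) ≤ H := by
    rw [Subgroup.closure_le]
    rintro _ ⟨L, hL, rfl⟩
    simp only [Cfsg.Agent.S2063.gensT, List.mem_cons, List.not_mem_nil, or_false] at hL
    rcases hL with rfl | rfl | rfl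
    · exact hword _ _ validL_aL h5
    · exact hword _ _ validL_muL h6
    · exact hword _ _ validL_dlL h7
  have hmap : H = (Subgroup.closure ({x, y} : Set ↥Spor.M23)).map Spor.M23.subtype := by
    rw [MonoidHom.map_closure, Set.image_pair]
    rfl
  rw [eq_top_iff]
  intro g _
  have h8 : (g : P) ∈ H := hgens (Cfsg.Agent.S2063.gen_le g.2)
  rw [hmap] at h8
  obtain ⟨g', hg', h9⟩ := h8
  have : g' = g := Subtype.ext h9
  rwa [← this]

/-- The primes dividing the order. -/
theorem prime_mem {p : ℕ} (hp : p.Prime) (h : p ∣ 10200960) : p ∈ [2, 3, 5, 7, 11, 23] := by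
  have e : (10200960 : ℕ) = 2 ^ 7 * 3 ^ 2 * 5 * 7 * 11 * 23 := by norm_num
  rw [e] at h
  have key : ∀ {q : ℕ}, q.Prime → p ∣ q → p = q := fun hq hd => (Nat.prime_dvd_prime_iff_eq hp hq).1 hd
  simp only [hp.dvd_mul] at h
  simp only [List.mem_cons, List.not_mem_nil, or_false]
  rcases h with ((((h | h) | h) | h) | h) | h
  · exact Or.inl (key Nat.prime_two (hp.dvd_of_dvd_pow h))
  · exact Or.inr (Or.inl (key Nat.prime_three (hp.dvd_of_dvd_pow h)))
  · exact Or.inr (Or.inr (Or.inl (key (by norm_num) h)))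
  · exact Or.inr (Or.inr (Or.inr (Or.inl (key (by norm_num) h))))
  · exact Or.inr (Or.inr (Or.inr (Or.inr (Or.inl (key (by norm_num) h)))))
  · exact Or.inr (Or.inr (Or.inr (Or.inr (Or.inr (key (by norm_num) h)))))

/-- Every allowed triple has an entry. -/
theorem tbl_cover : ∀ p ∈ [2, 3, 5, 7, 11, 23], ∀ q ∈ [2, 3, 5, 7, 11, 23], ∀ r ∈ [2, 3, 5, 7, 11, 23],
    p ≤ q → q ≤ r → ¬ (p = 2 ∧ q = 2) →
    ¬ ((p = 2 ∧ q = 3) ∨ (p = 2 ∧ q = 5 ∧ r = 5) ∨ (p = 2 ∧ q = 5 ∧ r = 7) ∨ (p = 3 ∧ q = 3 ∧ r ≤ 7)) →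
    tbl.any (fun e => e.p == p && e.q == q && e.r == r) = true := by
  decide +kernel

/-- The statement. -/
theorem main (p q r : ℕ) (hp : p.Prime) (hq : q.Prime)
    (hr : r.Prime) (hpq : p ≤ q) (hqr : q ≤ r) (hp2 : ¬ (p = 2 ∧ q = 2))
    (hdvd : p ∣ 10200960 ∧ q ∣ 10200960 ∧ r ∣ 10200960) :
    (∃ x y z : Spor.M23, orderOf x = p ∧ orderOf y = q ∧ orderOf z = r ∧ x * y * z = 1 ∧
        Subgroup.closure {x, y} = ⊤) ↔
      ¬ ((p = 2 ∧ q = 3) ∨ (p = 2 ∧ q = 5 ∧ r = 5) ∨ (p = 2 ∧ q = 5 ∧ r = 7) ∨ (p = 3 ∧ q = 3 ∧ r ≤ 7)) := by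
  have hpm := prime_mem hp hdvd.1
  have hqm := prime_mem hq hdvd.2.1
  have hrm := prime_mem hr hdvd.2.2
  constructor
  · rintro ⟨x, y, z, hx, hy, hz, hxyz, hgen⟩ hex
    have hS := scott_M23 x y z hxyz hgen
    have h1 := F_pos x
    have h2 := F_pos y
    have h3 := F_pos z
    rcases hex with ⟨rfl, rfl⟩ | ⟨rfl, rfl, rfl⟩ | ⟨rfl, rfl, rfl⟩ | ⟨rfl, rfl, h7⟩
    · have h4 := F_two x hx
      have h5 := F_three y hy
      have := Nat.mul_le_mul (Nat.mul_le_mul h4 h5) h3
      omega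
    · have h4 := F_two x hx
      have h5 := F_five y hy
      have h6 := F_five z hz
      have := Nat.mul_le_mul (Nat.mul_le_mul h4 h5) h6
      omega
    · have h4 := F_two x hx
      have h5 := F_five y hy
      have h6 := F_seven z hz
      have := Nat.mul_le_mul (Nat.mul_le_mul h4 h5) h6
      omega
    · have h4 := F_three x hx
      have h5 := F_three y hy
      simp only [List.mem_cons, List.not_mem_nil, or_false] at hrm
      rcases hrm with rfl | rfl | rfl | rfl | rfl | rfl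
      · omega
      · have h6 := F_three z hz
        have := Nat.mul_le_mul (Nat.mul_le_mul h4 h5) h6
        omega
      · have h6 := F_five z hz
        have := Nat.mul_le_mul (Nat.mul_le_mul h4 h5) h6
        omega
      · have h6 := F_seven z hz
        have := Nat.mul_le_mul (Nat.mul_le_mul h4 h5) h6
        omega
      · omega
      · omega
  · intro hex
    have h1 := tbl_cover p hpm q hqm r hrm hpq hqr hp2 hex
    obtain ⟨e, he, h2⟩ := List.any_eq_true.1 h1
    simp only [Bool.and_eq_true, beq_iff_eq] at h2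
    obtain ⟨⟨rfl, rfl⟩, rfl⟩ := h2
    exact exists_of_ent (List.all_eq_true.1 tbl_ok e he) hp hq hr

end Cfsg.Agent.Lib.Compute.M23Tri
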