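import Cfsg.Agent.Lib.Compute.M23Tri.Scott
import Cfsg.Agent.S2063
import Cfsg.Agent.Lib.Compute.M24ClassFacts

/-!
# The module of `M23`: the words of the code vanishing at the extra point
-/

set_option autoImplicit false
set_option maxRecDepth 100000

namespace Cfsg.Agent.Lib.Compute.M23Tri

open Cfsg Cfsg.Agent.Lib.Compute.Golay Cfsg.Agent.Lib.Compute.GolayFast
open Cfsg.Agent.Lib.Compute.M24 Cfsg.Agent.Lib.Compute.M24Enum Cfsg.Agent.Lib.Compute.M24Norm
open Cfsg.Agent.Lib.Compute.M24Out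

/-- The words of the code vanishing at the extra point. -/
def Vg : AddSubgroup (GolayPt → ZMod 2) where
  carrier := {w | w ∈ golayCode ∧ w none = 0}
  zero_mem' := ⟨golayCode.zero_mem, rfl⟩
  add_mem' := by
    rintro a b ⟨h1, h2⟩ ⟨h3, h4⟩
    refine ⟨golayCode.add_mem h1 h3, ?_⟩
    show a none + b none = 0
    rw [h2, h4, add_zero]
  neg_mem' := by
    rintro a ⟨h1, h2⟩
    refine ⟨golayCode.neg_mem h1, ?_⟩
    show - a none = 0
    rw [h2, neg_zero]

theorem mem_Vg {w : GolayPt → ZMod 2} : w ∈ Vg ↔ w ∈ golayCode ∧ w none = 0 := Iff.rfl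

theorem M23_fix {σ : P} (h : σ ∈ Spor.M23) : (σ⁻¹ : P) none = none := by
  have h1 : σ none = none := ((Cfsg.Agent.S2063.mem_M23_iff σ).1 h).2
  rw [Equiv.Perm.inv_eq_iff_eq]
  exact h1.symm

theorem M23_le' {σ : P} (h : σ ∈ Spor.M23) : σ ∈ M24 := ((Cfsg.Agent.S2063.mem_M23_iff σ).1 h).1

/-- The action. -/
noncomputable def rho : ↥Spor.M23 →* AddMonoid.End ↥Vg where
  toFun σ := AddMonoidHom.mk' (fun v => ⟨(v : GolayPt → ZMod 2) ∘ ((σ : P)⁻¹ : P), by
      refine ⟨(mem_M24_iff (σ : P)).1 (M23_le' σ.2) _ v.2.1, ?_⟩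
      show (v : GolayPt → ZMod 2) (((σ : P)⁻¹ : P) none) = 0
      rw [M23_fix σ.2]
      exact v.2.2⟩) (by
      intro a b
      rfl)
  map_one' := by
    ext v p
    rfl
  map_mul' := by
    intro a b
    ext v p
    rfl

theorem rho_val (σ : ↥Spor.M23) (v : ↥Vg) : ((rho σ v : ↥Vg) : GolayPt → ZMod 2) = (v : GolayPt → ZMod 2) ∘ ((σ : P)⁻¹ : P) :=
  rfl

theorem rho_fix_iff (σ : ↥Spor.M23) (v : ↥Vg) : rho σ v = v ↔ (v : GolayPt → ZMod 2) ∘ ((σ : P)⁻¹ : P) = v := by
  rw [← rho_val]
  exact Subtype.ext_iff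

instance : Finite ↥Vg := Subtype.finite

/-- The masks of the words of the subgroup. -/
def maskV : List ℕ := codeMasks.filter (fun m => !m.testBit 23)

theorem maskV_len : maskV.length = 2048 := by decide +kernel

theorem mem_maskV {m : ℕ} : m ∈ maskV ↔ m ∈ codeMasks ∧ m.testBit 23 = false := by
  simp [maskV, List.mem_filter]

theorem maskWord_none (m : ℕ) : maskWord m none = if m.testBit 23 then 1 else 0 := rfl

theorem maskWord_mem_Vg {m : ℕ} (hm : m ∈ maskV) : maskWord m ∈ Vg := by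
  rw [mem_maskV] at hm
  refine ⟨mem_code_of_mem_codeMasks hm.1, ?_⟩
  rw [maskWord_none, hm.2]
  rfl

theorem exists_maskV {w : GolayPt → ZMod 2} (hw : w ∈ Vg) : ∃ m ∈ maskV, maskWord m = w := by
  obtain ⟨m, hm, rfl⟩ := exists_mask_of_mem_code hw.1
  refine ⟨m, mem_maskV.2 ⟨hm, ?_⟩, rfl⟩
  have h2 := hw.2
  rw [maskWord_none] at h2
  cases h3 : m.testBit 23
  · rfl
  · rw [h3] at h2
    simp at h2

theorem maskV_nodup : maskV.Nodup := codeMasks_nodup.filter _

theorem card_Vg : Nat.card ↥Vg = 2048 := by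
  let f : {m // m ∈ maskV} → ↥Vg := fun m => ⟨maskWord m.1, maskWord_mem_Vg m.2⟩
  have hinj : Function.Injective f := by
    rintro ⟨a, ha⟩ ⟨b, hb⟩ h
    have h' : maskWord a = maskWord b := congrArg Subtype.val h
    apply Subtype.ext
    exact maskWord_injOn (codeMasks_lt a (mem_maskV.1 ha).1) (codeMasks_lt b (mem_maskV.1 hb).1) h'
  have hsurj : Function.Surjective f := by
    rintro ⟨w, hw⟩
    obtain ⟨m, hm, rfl⟩ := exists_maskV hw
    exact ⟨⟨m, hm⟩, rfl⟩
  rw [← Nat.card_congr (Equiv.ofBijective f ⟨hinj, hsurj⟩), Nat.card_eq_fintype_card,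
    Fintype.card_of_subtype maskV.toFinset (by simp), List.toFinset_card_of_nodup maskV_nodup, maskV_len]

/-! ### An element without fixed words -/

theorem shift_fix : maskV.all (fun m => (imgMask aL m != m && Nat.blt (imgMask aL m) (2 ^ 24)) || m == 0) = true := by
  decide +kernel

/-- The translation as an element of `M23`. -/
noncomputable def A' : ↥Spor.M23 := ⟨A, Cfsg.Agent.S2063.A_mem'⟩

theorem A'_fix (v : ↥Vg) (h : rho A' v = v) : v = 0 := by
  obtain ⟨w, hw⟩ := v
  obtain ⟨m, hm, rfl⟩ := exists_maskV hw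
  have h1 : maskWord m ∘ ((ofL aL)⁻¹ : P) = maskWord m := (rho_fix_iff A' _).1 h
  have h2 : maskWord (imgMask aL m) = maskWord m := by
    rw [← maskWord_comp_inv (codes_ofL validL_aL) validL_aL, h1]
  have hm' := (mem_maskV.1 hm).1
  have h3 := List.all_eq_true.1 shift_fix m hm
  simp only [Bool.or_eq_true, Bool.and_eq_true, bne_iff_ne, Nat.blt_eq, beq_iff_eq] at h3
  rcases h3 with ⟨h4, h5⟩ | h4
  · exact absurd (maskWord_injOn h5 (codeMasks_lt m hm') h2) h4
  · subst h4
    apply Subtype.ext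
    exact maskWord_zero

/-! ### The fixed words of the whole code -/

/-- The words of the code fixed by a permutation. -/
def CF (τ : P) : Set (GolayPt → ZMod 2) := {w | w ∈ golayCode ∧ w ∘ (τ⁻¹ : P) = w}

theorem card_CF_conj {g τ x : P} (hg : g ∈ M24) (h : g * τ * g⁻¹ = x) : Nat.card (CF τ) ≤ Nat.card (CF x) := by
  subst h
  let f : CF τ → CF (g * τ * g⁻¹) := fun w => ⟨(w : GolayPt → ZMod 2) ∘ (g⁻¹ : P), by
    refine ⟨(mem_M24_iff g).1 hg _ w.2.1, ?_⟩
    funext p
    have h1 := congrFun w.2.2 ((g⁻¹ : P) p)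
    simp only [Function.comp] at h1 ⊢
    rw [← h1]
    have : (g⁻¹ : P) (((g * τ * g⁻¹)⁻¹ : P) p) = (τ⁻¹ : P) ((g⁻¹ : P) p) := by
      simp [mul_inv_rev, Equiv.Perm.mul_apply]
    exact congrArg _ this⟩
  have hf : Function.Injective f := by
    intro a b hab
    apply Subtype.ext
    have h1 : (a : GolayPt → ZMod 2) ∘ (g⁻¹ : P) = (b : GolayPt → ZMod 2) ∘ (g⁻¹ : P) :=
      congrArg Subtype.val hab
    exact (Equiv.surjective (g⁻¹ : P)).injective_comp_right h1
  exact Nat.card_le_card_of_injective f hf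

theorem one_mem_code : (1 : GolayPt → ZMod 2) ∈ golayCode := Submodule.subset_span (Or.inr rfl)

theorem card_CF_le (x : ↥Spor.M23) : Nat.card (CF (x : P)) ≤ 2 * Nat.card (cm rho x).ker := by
  classical
  have hval : ∀ w : CF (x : P), ∃ v : ↥(cm rho x).ker,
      ((((v : ↥Vg) : GolayPt → ZMod 2) = w) ∧ (w : GolayPt → ZMod 2) none = 0) ∨
      ((((v : ↥Vg) : GolayPt → ZMod 2) = (w : GolayPt → ZMod 2) + 1) ∧ (w : GolayPt → ZMod 2) none ≠ 0) := by
    rintro ⟨w, hw, hf⟩
    by_cases h0 : w none = 0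
    · refine ⟨⟨⟨w, hw, h0⟩, ?_⟩, Or.inl ⟨rfl, h0⟩⟩
      rw [mem_ker_cm, rho_fix_iff]
      exact hf
    · have h1 : w none = 1 := by
        generalize w none = a at h0
        revert a
        decide
      refine ⟨⟨⟨w + 1, golayCode.add_mem hw one_mem_code, ?_⟩, ?_⟩, Or.inr ⟨rfl, h0⟩⟩
      · show w none + 1 = 0
        rw [h1]
        decide
      · rw [mem_ker_cm, rho_fix_iff]
        funext p
        have h2 := congrFun hf p
        simp only [Function.comp] at h2 ⊢
        show w _ + 1 = w p + 1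
        rw [h2]
  choose v hv using hval
  let f : CF (x : P) → ↥(cm rho x).ker × Bool := fun w => (v w, decide ((w : GolayPt → ZMod 2) none = 0))
  have hf : Function.Injective f := by
    intro a b hab
    have h1 : v a = v b := congrArg Prod.fst hab
    have h2 := congrArg Prod.snd hab
    simp only [f, decide_eq_decide] at h2
    have h3 : ((v a : ↥Vg) : GolayPt → ZMod 2) = ((v b : ↥Vg) : GolayPt → ZMod 2) := by rw [h1]
    apply Subtype.ext
    rcases hv a with ⟨e1, e2⟩ | ⟨e1, e2⟩ <;> rcases hv b with ⟨e3, e4⟩ | ⟨e3, e4⟩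
    · rw [← e1, ← e3, h3]
    · exact absurd (h2.1 e2) e4
    · exact absurd (h2.2 e4) e2
    · rw [e1, e3] at h3
      exact add_right_cancel h3
  have h := Nat.card_le_card_of_injective f hf
  rw [Nat.card_prod, Nat.card_eq_fintype_card (α := Bool), Fintype.card_bool] at h
  rw [mul_comm]
  exact h

/-- The masks fixed by a table. -/
def fixMasks (L : List ℕ) : List ℕ := codeMasks.filter (fun m => imgMask L m == m)

theorem fix_t8 : (fixMasks t8L).length = 256 := by decide +kernel
theorem fix_c6 : (fixMasks c6L).length = 64 := by decide +kernel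

theorem card_CF_ge (τ : P) : (fixMasks (toL (τ : GolayPt → GolayPt))).length ≤ Nat.card (CF τ) := by
  classical
  have hv := validL_toL τ
  let f : {m // m ∈ fixMasks (toL (τ : GolayPt → GolayPt))} → CF τ := fun m => ⟨maskWord m.1, by
    have h1 := List.mem_filter.1 m.2
    refine ⟨mem_code_of_mem_codeMasks h1.1, ?_⟩
    rw [maskWord_comp_inv (codes_toL τ) hv, eq_of_beq h1.2]⟩
  have hf : Function.Injective f := by
    rintro ⟨a, ha⟩ ⟨b, hb⟩ h
    have h' : maskWord a = maskWord b := congrArg Subtype.val h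
    apply Subtype.ext
    exact maskWord_injOn (codeMasks_lt a (List.mem_filter.1 ha).1) (codeMasks_lt b (List.mem_filter.1 hb).1) h'
  have h := Nat.card_le_card_of_injective f hf
  have hnd : (fixMasks (toL (τ : GolayPt → GolayPt))).Nodup := codeMasks_nodup.filter _
  rwa [Nat.card_eq_fintype_card, Fintype.card_of_subtype (fixMasks (toL (τ : GolayPt → GolayPt))).toFinset (by simp),
    List.toFinset_card_of_nodup hnd] at h

theorem none_mem_fix (x : ↥Spor.M23) : 0 < (Finset.univ.filter fun p => (x : P) p = p).card := by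
  refine Finset.card_pos.2 ⟨none, ?_⟩
  simp only [Finset.mem_filter, Finset.mem_univ, true_and]
  exact ((Cfsg.Agent.S2063.mem_M23_iff _).1 x.2).2

/-- The fixed words of an involution. -/
theorem F_two (x : ↥Spor.M23) (h : orderOf x = 2) : 128 ≤ Nat.card (cm rho x).ker := by
  have hx : orderOf (x : P) = 2 := by
    rw [← h]
    exact Subgroup.orderOf_coe x
  rcases inv_class' (M23_le' x.2) hx with ⟨⟨g, hg, hgx⟩, -⟩ | ⟨-, h0⟩
  · have h1 := card_CF_conj hg hgx
    have h2 := card_CF_ge t8P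
    rw [t8P_toL, fix_t8] at h2
    have h3 := card_CF_le x
    omega
  · have := none_mem_fix x
    omega

/-- The fixed words of an element of order 3. -/
theorem F_three (x : ↥Spor.M23) (h : orderOf x = 3) : 32 ≤ Nat.card (cm rho x).ker := by
  have hx : orderOf (x : P) = 3 := by
    rw [← h]
    exact Subgroup.orderOf_coe x
  rcases ord3_class' (M23_le' x.2) hx with ⟨⟨g, hg, hgx⟩, -⟩ | ⟨-, h0⟩
  · have h1 := card_CF_conj hg hgx
    have h2 := card_CF_ge c6P
    rw [c6P_toL, fix_c6] at h2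
    have h3 := card_CF_le x
    omega
  · have := none_mem_fix x
    omega

/-- The number of fixed words modulo the order. -/
theorem F_mod (p : ℕ) [hp : Fact p.Prime] (x : ↥Spor.M23) (h : orderOf x = p) :
    2048 ≡ Nat.card (cm rho x).ker [MOD p] := by
  let f : Function.End ↥Vg := fun v => rho x v
  have hpow : ∀ k : ℕ, ∀ v, (f ^ k) v = rho (x ^ k) v := by
    intro k
    induction k with
    | zero =>
      intro v
      rw [pow_zero, pow_zero, rho_one]
      rfl
    | succ k ih =>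
      intro v
      rw [pow_succ, pow_succ, rho_mul]
      show (f ^ k) (f v) = _
      rw [ih]
  have hf : f ^ p ^ 1 = 1 := by
    rw [pow_one]
    funext v
    rw [hpow, ← h, pow_orderOf_eq_one, rho_one]
    rfl
  letI : Fintype ↥Vg := Fintype.ofFinite _
  letI : DecidableEq ↥Vg := Classical.decEq _
  have h1 := Equiv.Perm.card_fixedPoints_modEq (f := f) (p := p) (n := 1) hf
  rw [← Nat.card_eq_fintype_card, ← Nat.card_eq_fintype_card, card_Vg] at h1
  have h2 : Nat.card ↑(Function.fixedPoints f) = Nat.card (cm rho x).ker := by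
    refine Nat.card_congr (Equiv.subtypeEquivRight fun v => ?_)
    rw [mem_ker_cm, Function.mem_fixedPoints_iff]
  rwa [h2] at h1

theorem F_dvd (x : ↥Spor.M23) : Nat.card (cm rho x).ker ∣ 2 ^ 11 := by
  have h := AddSubgroup.card_addSubgroup_dvd_card (cm rho x).ker
  rw [card_Vg] at h
  exact h

theorem F_five (x : ↥Spor.M23) (h : orderOf x = 5) : 8 ≤ Nat.card (cm rho x).ker := by
  have : Fact (Nat.Prime 5) := ⟨by norm_num⟩
  have h1 := F_mod 5 x h
  obtain ⟨k, hk, h2⟩ := (Nat.dvd_prime_pow Nat.prime_two).1 (F_dvd x)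
  rw [h2] at h1 ⊢
  interval_cases k <;> first | (norm_num [Nat.ModEq] at h1; done) | norm_num

theorem F_seven (x : ↥Spor.M23) (h : orderOf x = 7) : 4 ≤ Nat.card (cm rho x).ker := by
  have : Fact (Nat.Prime 7) := ⟨by norm_num⟩
  have h1 := F_mod 7 x h
  obtain ⟨k, hk, h2⟩ := (Nat.dvd_prime_pow Nat.prime_two).1 (F_dvd x)
  rw [h2] at h1 ⊢
  interval_cases k <;> first | (norm_num [Nat.ModEq] at h1; done) | norm_num

theorem F_pos (x : ↥Spor.M23) : 1 ≤ Nat.card (cm rho x).ker := Nat.card_pos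

/-- Scott's lemma for `M23`. -/
theorem scott_M23 (x y z : ↥Spor.M23) (h : x * y * z = 1) (hgen : Subgroup.closure ({x, y} : Set ↥Spor.M23) = ⊤) :
    Nat.card (cm rho x).ker * Nat.card (cm rho y).ker * Nat.card (cm rho z).ker ≤ 2048 := by
  rw [← card_Vg]
  exact scott rho x y z A' h hgen A'_fix

end Cfsg.Agent.Lib.Compute.M23Tri
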